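import Mathlib

/-!
# Numerics for the row of `PΩ_{2m+1}(q)` (helper791)
-/

set_option autoImplicit false

namespace Cfsg.Agent.H791.QAO

theorem pow_seven (s : ℕ) : s ^ 7 ≤ 4 ^ (s + 4) := by
  induction s with
  | zero => norm_num
  | succ s ih =>
    rcases Nat.lt_or_ge s 5 with h | h
    · interval_cases s <;> norm_num
    · have h1 : (s + 1) ^ 7 ≤ 4 * s ^ 7 := by
        obtain ⟨t, rfl⟩ := Nat.exists_eq_add_of_le h
        have : 4 * (5 + t) ^ 7 - (5 + t + 1) ^ 7 = 4 * (5 + t) ^ 7 - (6 + t) ^ 7 := by ring_nf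
        zify
        nlinarith [pow_nonneg (show (0 : ℤ) ≤ t by positivity) 2, pow_nonneg (show (0 : ℤ) ≤ t by positivity) 3,
          pow_nonneg (show (0 : ℤ) ≤ t by positivity) 4, pow_nonneg (show (0 : ℤ) ≤ t by positivity) 5,
          pow_nonneg (show (0 : ℤ) ≤ t by positivity) 6, pow_nonneg (show (0 : ℤ) ≤ t by positivity) 7]
      calc (s + 1) ^ 7 ≤ 4 * s ^ 7 := h1
        _ ≤ 4 * 4 ^ (s + 4) := Nat.mul_le_mul_left _ ih
        _ = 4 ^ (s + 1 + 4) := by ring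

/-- the exponent `T` -/
def T (s m : ℕ) : ℕ := (2 * m ^ 2 + m) * (s + 4)

theorem step {s m : ℕ} (hs : 3 ≤ s) (hm : 3 ≤ m) (h : 3 * (T s m * (T s m + 6)) ≤ 245 * (s ^ (2 * m - 3) * (s - 1))) :
    3 * (T s (m + 1) * (T s (m + 1) + 6)) ≤ 245 * (s ^ (2 * (m + 1) - 3) * (s - 1)) := by
  have h1 : 7 * T s (m + 1) ≤ 12 * T s m := by
    unfold T
    have h2 : 7 * (2 * (m + 1) ^ 2 + (m + 1)) ≤ 12 * (2 * m ^ 2 + m) := by nlinarith
    calc 7 * ((2 * (m + 1) ^ 2 + (m + 1)) * (s + 4)) = (7 * (2 * (m + 1) ^ 2 + (m + 1))) * (s + 4) := by ring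
      _ ≤ (12 * (2 * m ^ 2 + m)) * (s + 4) := Nat.mul_le_mul_right _ h2
      _ = _ := by ring
  have h2 : T s (m + 1) * (T s (m + 1) + 6) ≤ 9 * (T s m * (T s m + 6)) := by nlinarith
  have h3 : s ^ (2 * (m + 1) - 3) = s ^ 2 * s ^ (2 * m - 3) := by
    rw [← pow_add]
    congr 1
    omega
  have h4 : 9 ≤ s ^ 2 := by nlinarith
  calc 3 * (T s (m + 1) * (T s (m + 1) + 6)) ≤ 9 * (3 * (T s m * (T s m + 6))) := by nlinarith
    _ ≤ 9 * (245 * (s ^ (2 * m - 3) * (s - 1))) := Nat.mul_le_mul_left _ h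
    _ ≤ s ^ 2 * (245 * (s ^ (2 * m - 3) * (s - 1))) := Nat.mul_le_mul_right _ h4
    _ = _ := by rw [h3]; ring

theorem key {s m : ℕ} (h : (5 ≤ s ∧ 3 ≤ m) ∨ (s = 3 ∧ 5 ≤ m)) :
    3 * (T s m * (T s m + 6)) ≤ 245 * (s ^ (2 * m - 3) * (s - 1)) := by
  rcases h with ⟨hs, hm⟩ | ⟨rfl, hm⟩
  · induction m, hm using Nat.le_induction with
    | base =>
      obtain ⟨t, rfl⟩ := Nat.exists_eq_add_of_le hs
      have h1 : 5 + t - 1 = 4 + t := by omega
      rw [h1]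
      unfold T
      norm_num
      nlinarith [pow_nonneg (show 0 ≤ t by omega) 2, pow_nonneg (show 0 ≤ t by omega) 3,
        pow_nonneg (show 0 ≤ t by omega) 4]
    | succ m hm ih => exact step (by omega) hm ih
  · induction m, hm using Nat.le_induction with
    | base => norm_num [T]
    | succ m hm ih => exact step (by omega) (by omega) ih

theorem num {s m N : ℕ} (h : (5 ≤ s ∧ 3 ≤ m) ∨ (s = 3 ∧ 5 ≤ m)) (hN : N < s ^ (2 * m ^ 2 + m)) {p j : ℕ} (hp : 3 ≤ p)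
    (hj : 1 ≤ j) (h1 : (p + 1) ^ (j - 1) ≤ N) : N ^ j < 11 ^ (s ^ (2 * m - 3) * (s - 1)) := by
  have h2 : N ^ 7 < 4 ^ T s m := by
    calc N ^ 7 < (s ^ (2 * m ^ 2 + m)) ^ 7 := Nat.pow_lt_pow_left hN (by norm_num)
      _ = (s ^ 7) ^ (2 * m ^ 2 + m) := by rw [← pow_mul, ← pow_mul, mul_comm]
      _ ≤ (4 ^ (s + 4)) ^ (2 * m ^ 2 + m) := Nat.pow_le_pow_left (pow_seven s) _
      _ = 4 ^ T s m := by rw [← pow_mul]; unfold T; rw [mul_comm]
  have h3 : 4 ^ (7 * (j - 1)) < 4 ^ T s m := by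
    calc 4 ^ (7 * (j - 1)) = (4 ^ (j - 1)) ^ 7 := by rw [← pow_mul, mul_comm]
      _ ≤ ((p + 1) ^ (j - 1)) ^ 7 := Nat.pow_le_pow_left (Nat.pow_le_pow_left (by omega) _) _
      _ ≤ N ^ 7 := Nat.pow_le_pow_left h1 _
      _ < _ := h2
  have h4 : 7 * (j - 1) < T s m := (Nat.pow_lt_pow_iff_right (by norm_num)).1 h3
  have h5 : 7 * j ≤ T s m + 6 := by omega
  apply lt_of_pow_lt_pow_left₀ 735 (Nat.zero_le _)
  calc (N ^ j) ^ 735 = (N ^ 7) ^ (7 * j * 15) := by rw [← pow_mul, ← pow_mul]; congr 1; ring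
    _ < (4 ^ T s m) ^ (7 * j * 15) := Nat.pow_lt_pow_left h2 (by omega)
    _ = 4 ^ (15 * (T s m * (7 * j))) := by rw [← pow_mul]; congr 1; ring
    _ ≤ 4 ^ (15 * (T s m * (T s m + 6))) :=
      Nat.pow_le_pow_right (by norm_num) (Nat.mul_le_mul_left _ (Nat.mul_le_mul_left _ h5))
    _ = (4 ^ 5) ^ (3 * (T s m * (T s m + 6))) := by rw [← pow_mul]; congr 1; ring
    _ ≤ (11 ^ 3) ^ (3 * (T s m * (T s m + 6))) := Nat.pow_le_pow_left (by norm_num) _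
    _ ≤ (11 ^ 3) ^ (245 * (s ^ (2 * m - 3) * (s - 1))) := Nat.pow_le_pow_right (by norm_num) (key h)
    _ = (11 ^ (s ^ (2 * m - 3) * (s - 1))) ^ 735 := by rw [← pow_mul, ← pow_mul]; congr 1; ring

/-- `m = 4`, `s = 3` -/
theorem num_three {N : ℕ} (hN : N < 4 ^ 28) {p j : ℕ} (hp : 3 ≤ p) (h1 : (p + 1) ^ (j - 1) ≤ N) :
    N ^ j < 11 ^ 486 := by
  have h3 : 4 ^ (j - 1) < 4 ^ 28 := lt_of_le_of_lt ((Nat.pow_le_pow_left (by omega) _).trans h1) hN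
  have h4 : j - 1 < 28 := (Nat.pow_lt_pow_iff_right (by norm_num)).1 h3
  calc N ^ j ≤ (4 ^ 28) ^ j := Nat.pow_le_pow_left hN.le _
    _ ≤ (4 ^ 28) ^ 28 := Nat.pow_le_pow_right (by norm_num) (by omega)
    _ = (4 ^ 5) ^ 156 * 4 ^ 4 := by rw [← pow_mul, ← pow_mul, ← pow_add]
    _ ≤ (11 ^ 3) ^ 156 * 4 ^ 4 := Nat.mul_le_mul_right _ (Nat.pow_le_pow_left (by norm_num) _)
    _ < (11 ^ 3) ^ 156 * 11 ^ 18 := Nat.mul_lt_mul_of_pos_left (by norm_num) (pow_pos (by norm_num) _)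
    _ = 11 ^ 486 := by rw [← pow_mul, ← pow_add]

theorem prod_lt (s m : ℕ) :
    ∏ i ∈ Finset.range m, (s ^ (2 * (i + 1)) - 1) ≤ s ^ (m * (m + 1)) := by
  induction m with
  | zero => simp
  | succ m ih =>
    rw [Finset.prod_range_succ]
    calc _ ≤ s ^ (m * (m + 1)) * s ^ (2 * (m + 1)) := Nat.mul_le_mul ih (Nat.sub_le _ _)
      _ = _ := by rw [← pow_add]; congr 1; ring

theorem card_lt {s m c : ℕ} (hs : 3 ≤ s)
    (hc : 2 * c = s ^ (m ^ 2) * ∏ i ∈ Finset.range m, (s ^ (2 * (i + 1)) - 1)) : c < s ^ (2 * m ^ 2 + m) := by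
  have h1 : 2 * c ≤ s ^ (2 * m ^ 2 + m) := by
    rw [hc]
    calc _ ≤ s ^ (m ^ 2) * s ^ (m * (m + 1)) := Nat.mul_le_mul_left _ (prod_lt s m)
      _ = _ := by rw [← pow_add]; congr 1; ring
  have h2 : 0 < s ^ (2 * m ^ 2 + m) := by positivity
  omega

theorem dvd_two_mul {s m r : ℕ} (hr : r.Prime) (hm : 1 ≤ m) {i : ℕ} (hi : i < m) (hri : r - 1 = 2 * (i + 1)) :
    r ∣ s ^ (m ^ 2) * ∏ i ∈ Finset.range m, (s ^ (2 * (i + 1)) - 1) := by
  by_cases h : r ∣ s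
  · exact Dvd.dvd.mul_right (dvd_pow h (by positivity)) _
  · refine Dvd.dvd.mul_left ?_ _
    refine Dvd.dvd.trans ?_ (Finset.dvd_prod_of_mem _ (Finset.mem_range.2 hi))
    rw [← hri]
    have : Fact r.Prime := ⟨hr⟩
    have h1 : ((s : ZMod r)) ≠ 0 := by
      rw [Ne, ZMod.natCast_eq_zero_iff]
      exact h
    have h2 := ZMod.pow_card_sub_one_eq_one h1
    have hs : 1 ≤ s := by
      rcases Nat.eq_zero_or_pos s with rfl | h'
      · exact absurd (dvd_zero r) h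
      · exact h'
    rw [← ZMod.natCast_eq_zero_iff, Nat.cast_sub (Nat.one_le_pow _ _ hs), Nat.cast_pow, h2, Nat.cast_one, sub_self]

theorem ge_eleven {s m c : ℕ} (hs : Odd s) (hs3 : 3 ≤ s) (hm : 3 ≤ m)
    (hc : 2 * c = s ^ (m ^ 2) * ∏ i ∈ Finset.range m, (s ^ (2 * (i + 1)) - 1)) {q : ℕ} (hq : q.Prime)
    (hqc : ¬ q ∣ c) : 11 ≤ q := by
  by_contra hlt
  push Not at hlt
  have key : ∀ r : ℕ, r.Prime → r ≠ 2 → ∀ i < m, r - 1 = 2 * (i + 1) → r ∣ c := by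
    intro r hr hr2 i hi hri
    have h1 := dvd_two_mul (s := s) hr (by omega) hi hri
    rw [← hc] at h1
    rcases hr.dvd_mul.1 h1 with h2 | h2
    · exact absurd ((Nat.prime_dvd_prime_iff_eq hr Nat.prime_two).1 h2) hr2
    · exact h2
  have h2 : 2 ∣ c := by
    have h3 : 4 ∣ 2 * c := by
      rw [hc]
      refine Dvd.dvd.mul_left ?_ _
      refine Dvd.dvd.trans ?_ (Finset.dvd_prod_of_mem _ (Finset.mem_range.2 (show 0 < m by omega)))
      obtain ⟨t, rfl⟩ := hs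
      refine ⟨t * (t + 1), ?_⟩
      have : (2 * t + 1) ^ (2 * (0 + 1)) = 4 * (t * (t + 1)) + 1 := by ring
      rw [this, Nat.add_sub_cancel]
    omega
  interval_cases q
  · exact absurd hq (by norm_num)
  · exact absurd hq (by norm_num)
  · exact hqc h2
  · exact hqc (key 3 (by norm_num) (by norm_num) 0 (by omega) (by norm_num))
  · exact absurd hq (by norm_num)
  · exact hqc (key 5 (by norm_num) (by norm_num) 1 (by omega) (by norm_num))
  · exact absurd hq (by norm_num)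
  · exact hqc (key 7 (by norm_num) (by norm_num) 2 (by omega) (by norm_num))
  · exact absurd hq (by norm_num)
  · exact absurd hq (by norm_num)
  · exact absurd hq (by norm_num)

end Cfsg.Agent.H791.QAO
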